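import Cfsg.Agent.Lib.Fi22OSeven.DataR
import Cfsg.Agent.Lib.Leech.Sub.Split

/-! Kernel checks of the chain: elements. -/

set_option autoImplicit false
-- the pieces are checked one after another, which keeps the peak memory low
set_option Elab.async false
set_option maxRecDepth 100000

namespace CfsgLib.Fi22OSeven

open CfsgLib.Schur.MonoCover CfsgLib.Leech

theorem tabChkR_0 : pieceOK 50 (List.range dataR.nE) (dataR.tabChk) 0 = true := by decide +kernel

theorem tabChkR_1 : pieceOK 50 (List.range dataR.nE) (dataR.tabChk) 1 = true := by decide +kernel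

theorem tabChkR_2 : pieceOK 50 (List.range dataR.nE) (dataR.tabChk) 2 = true := by decide +kernel

theorem tabChkR_3 : pieceOK 50 (List.range dataR.nE) (dataR.tabChk) 3 = true := by decide +kernel

theorem tabChkR_4 : pieceOK 50 (List.range dataR.nE) (dataR.tabChk) 4 = true := by decide +kernel

theorem tabChkR_5 : pieceOK 50 (List.range dataR.nE) (dataR.tabChk) 5 = true := by decide +kernel

theorem tabChkR_6 : pieceOK 50 (List.range dataR.nE) (dataR.tabChk) 6 = true := by decide +kernel

theorem tabChkR_7 : pieceOK 50 (List.range dataR.nE) (dataR.tabChk) 7 = true := by decide +kernel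

theorem tabChkR_8 : pieceOK 50 (List.range dataR.nE) (dataR.tabChk) 8 = true := by decide +kernel

theorem tabChkR_9 : pieceOK 50 (List.range dataR.nE) (dataR.tabChk) 9 = true := by decide +kernel

theorem tabChkR_10 : pieceOK 50 (List.range dataR.nE) (dataR.tabChk) 10 = true := by decide +kernel

theorem tabChkR_11 : pieceOK 50 (List.range dataR.nE) (dataR.tabChk) 11 = true := by decide +kernel

theorem tabChkR_12 : pieceOK 50 (List.range dataR.nE) (dataR.tabChk) 12 = true := by decide +kernel

theorem tabChkR_all : (List.range dataR.nE).all (dataR.tabChk) = true :=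
  all_of_pieces (n := 50) (m := 13) (by decide +kernel) fun i hi =>
    match i, hi with
    | 0, _ => tabChkR_0
    | 1, _ => tabChkR_1
    | 2, _ => tabChkR_2
    | 3, _ => tabChkR_3
    | 4, _ => tabChkR_4
    | 5, _ => tabChkR_5
    | 6, _ => tabChkR_6
    | 7, _ => tabChkR_7
    | 8, _ => tabChkR_8
    | 9, _ => tabChkR_9
    | 10, _ => tabChkR_10
    | 11, _ => tabChkR_11
    | 12, _ => tabChkR_12
    | j + 13, h => absurd h (by omega)

theorem defChkR_0 : pieceOK 30 (List.range dataR.nU) (dataR.defChk) 0 = true := by decide +kernel

theorem defChkR_1 : pieceOK 30 (List.range dataR.nU) (dataR.defChk) 1 = true := by decide +kernel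

theorem defChkR_2 : pieceOK 30 (List.range dataR.nU) (dataR.defChk) 2 = true := by decide +kernel

theorem defChkR_3 : pieceOK 30 (List.range dataR.nU) (dataR.defChk) 3 = true := by decide +kernel

theorem defChkR_4 : pieceOK 30 (List.range dataR.nU) (dataR.defChk) 4 = true := by decide +kernel

theorem defChkR_5 : pieceOK 30 (List.range dataR.nU) (dataR.defChk) 5 = true := by decide +kernel

theorem defChkR_6 : pieceOK 30 (List.range dataR.nU) (dataR.defChk) 6 = true := by decide +kernel

theorem defChkR_7 : pieceOK 30 (List.range dataR.nU) (dataR.defChk) 7 = true := by decide +kernel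

theorem defChkR_8 : pieceOK 30 (List.range dataR.nU) (dataR.defChk) 8 = true := by decide +kernel

theorem defChkR_9 : pieceOK 30 (List.range dataR.nU) (dataR.defChk) 9 = true := by decide +kernel

theorem defChkR_10 : pieceOK 30 (List.range dataR.nU) (dataR.defChk) 10 = true := by decide +kernel

theorem defChkR_11 : pieceOK 30 (List.range dataR.nU) (dataR.defChk) 11 = true := by decide +kernel

theorem defChkR_12 : pieceOK 30 (List.range dataR.nU) (dataR.defChk) 12 = true := by decide +kernel

theorem defChkR_13 : pieceOK 30 (List.range dataR.nU) (dataR.defChk) 13 = true := by decide +kernel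

theorem defChkR_14 : pieceOK 30 (List.range dataR.nU) (dataR.defChk) 14 = true := by decide +kernel

theorem defChkR_15 : pieceOK 30 (List.range dataR.nU) (dataR.defChk) 15 = true := by decide +kernel

theorem defChkR_16 : pieceOK 30 (List.range dataR.nU) (dataR.defChk) 16 = true := by decide +kernel

theorem defChkR_17 : pieceOK 30 (List.range dataR.nU) (dataR.defChk) 17 = true := by decide +kernel

theorem defChkR_18 : pieceOK 30 (List.range dataR.nU) (dataR.defChk) 18 = true := by decide +kernel

theorem defChkR_all : (List.range dataR.nU).all (dataR.defChk) = true :=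
  all_of_pieces (n := 30) (m := 19) (by decide +kernel) fun i hi =>
    match i, hi with
    | 0, _ => defChkR_0
    | 1, _ => defChkR_1
    | 2, _ => defChkR_2
    | 3, _ => defChkR_3
    | 4, _ => defChkR_4
    | 5, _ => defChkR_5
    | 6, _ => defChkR_6
    | 7, _ => defChkR_7
    | 8, _ => defChkR_8
    | 9, _ => defChkR_9
    | 10, _ => defChkR_10
    | 11, _ => defChkR_11
    | 12, _ => defChkR_12
    | 13, _ => defChkR_13
    | 14, _ => defChkR_14
    | 15, _ => defChkR_15
    | 16, _ => defChkR_16
    | 17, _ => defChkR_17
    | 18, _ => defChkR_18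
    | j + 19, h => absurd h (by omega)

theorem invChkR_all : (List.range dataR.ng).all dataR.invChk = true := by decide +kernel

theorem levChkR_0 : dataR.levChk 0 = true := by decide +kernel

theorem levChkR_1 : dataR.levChk 1 = true := by decide +kernel

theorem levChkR_2 : dataR.levChk 2 = true := by decide +kernel

theorem levChkR_3 : dataR.levChk 3 = true := by decide +kernel

theorem levChkR_4 : dataR.levChk 4 = true := by decide +kernel

theorem levChkR_5 : dataR.levChk 5 = true := by decide +kernel

theorem levChkR_6 : dataR.levChk 6 = true := by decide +kernel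

theorem levChkR_7 : dataR.levChk 7 = true := by decide +kernel

theorem levChkR_8 : dataR.levChk 8 = true := by decide +kernel

theorem pickChkR_all : (List.range dataR.nlev).all (fun k => (dataR.pick k).all (dataR.pickChk k)) = true := by decide +kernel

end CfsgLib.Fi22OSeven
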