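import Cfsg.Agent.Lib.Fi22OSeven.DataR
import Cfsg.Agent.Lib.Leech.Sub.Split

/-! Kernel checks of the chain: Schreier generators. -/

set_option autoImplicit false
-- the pieces are checked one after another, which keeps the peak memory low
set_option Elab.async false
set_option maxRecDepth 100000

namespace CfsgLib.Fi22OSeven

open CfsgLib.Schur.MonoCover CfsgLib.Leech

theorem schChkR0_0 : pieceOK 30 (schR0) (dataR.schChk 0) 0 = true := by decide +kernel

theorem schChkR0_1 : pieceOK 30 (schR0) (dataR.schChk 0) 1 = true := by decide +kernel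

theorem schChkR0_2 : pieceOK 30 (schR0) (dataR.schChk 0) 2 = true := by decide +kernel

theorem schChkR0_3 : pieceOK 30 (schR0) (dataR.schChk 0) 3 = true := by decide +kernel

theorem schChkR0_4 : pieceOK 30 (schR0) (dataR.schChk 0) 4 = true := by decide +kernel

theorem schChkR0_5 : pieceOK 30 (schR0) (dataR.schChk 0) 5 = true := by decide +kernel

theorem schChkR0_6 : pieceOK 30 (schR0) (dataR.schChk 0) 6 = true := by decide +kernel

theorem schChkR0_7 : pieceOK 30 (schR0) (dataR.schChk 0) 7 = true := by decide +kernel

theorem schChkR0_8 : pieceOK 30 (schR0) (dataR.schChk 0) 8 = true := by decide +kernel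

theorem schChkR0_9 : pieceOK 30 (schR0) (dataR.schChk 0) 9 = true := by decide +kernel

theorem schChkR0_10 : pieceOK 30 (schR0) (dataR.schChk 0) 10 = true := by decide +kernel

theorem schChkR0_11 : pieceOK 30 (schR0) (dataR.schChk 0) 11 = true := by decide +kernel

theorem schChkR0_12 : pieceOK 30 (schR0) (dataR.schChk 0) 12 = true := by decide +kernel

theorem schChkR0_13 : pieceOK 30 (schR0) (dataR.schChk 0) 13 = true := by decide +kernel

theorem schChkR0_14 : pieceOK 30 (schR0) (dataR.schChk 0) 14 = true := by decide +kernel

theorem schChkR0_15 : pieceOK 30 (schR0) (dataR.schChk 0) 15 = true := by decide +kernel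

theorem schChkR0_16 : pieceOK 30 (schR0) (dataR.schChk 0) 16 = true := by decide +kernel

theorem schChkR0_17 : pieceOK 30 (schR0) (dataR.schChk 0) 17 = true := by decide +kernel

theorem schChkR0_18 : pieceOK 30 (schR0) (dataR.schChk 0) 18 = true := by decide +kernel

theorem schChkR0_19 : pieceOK 30 (schR0) (dataR.schChk 0) 19 = true := by decide +kernel

theorem schChkR0_20 : pieceOK 30 (schR0) (dataR.schChk 0) 20 = true := by decide +kernel

theorem schChkR0_21 : pieceOK 30 (schR0) (dataR.schChk 0) 21 = true := by decide +kernel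

theorem schChkR0_22 : pieceOK 30 (schR0) (dataR.schChk 0) 22 = true := by decide +kernel

theorem schChkR0_23 : pieceOK 30 (schR0) (dataR.schChk 0) 23 = true := by decide +kernel

theorem schChkR0_24 : pieceOK 30 (schR0) (dataR.schChk 0) 24 = true := by decide +kernel

theorem schChkR0_25 : pieceOK 30 (schR0) (dataR.schChk 0) 25 = true := by decide +kernel

theorem schChkR0_all : (schR0).all (dataR.schChk 0) = true :=
  all_of_pieces (n := 30) (m := 26) (by decide +kernel) fun i hi =>
    match i, hi with
    | 0, _ => schChkR0_0
    | 1, _ => schChkR0_1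
    | 2, _ => schChkR0_2
    | 3, _ => schChkR0_3
    | 4, _ => schChkR0_4
    | 5, _ => schChkR0_5
    | 6, _ => schChkR0_6
    | 7, _ => schChkR0_7
    | 8, _ => schChkR0_8
    | 9, _ => schChkR0_9
    | 10, _ => schChkR0_10
    | 11, _ => schChkR0_11
    | 12, _ => schChkR0_12
    | 13, _ => schChkR0_13
    | 14, _ => schChkR0_14
    | 15, _ => schChkR0_15
    | 16, _ => schChkR0_16
    | 17, _ => schChkR0_17
    | 18, _ => schChkR0_18
    | 19, _ => schChkR0_19
    | 20, _ => schChkR0_20
    | 21, _ => schChkR0_21
    | 22, _ => schChkR0_22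
    | 23, _ => schChkR0_23
    | 24, _ => schChkR0_24
    | 25, _ => schChkR0_25
    | j + 26, h => absurd h (by omega)

theorem schChkR1_0 : pieceOK 30 (schR1) (dataR.schChk 1) 0 = true := by decide +kernel

theorem schChkR1_1 : pieceOK 30 (schR1) (dataR.schChk 1) 1 = true := by decide +kernel

theorem schChkR1_2 : pieceOK 30 (schR1) (dataR.schChk 1) 2 = true := by decide +kernel

theorem schChkR1_3 : pieceOK 30 (schR1) (dataR.schChk 1) 3 = true := by decide +kernel

theorem schChkR1_4 : pieceOK 30 (schR1) (dataR.schChk 1) 4 = true := by decide +kernel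

theorem schChkR1_5 : pieceOK 30 (schR1) (dataR.schChk 1) 5 = true := by decide +kernel

theorem schChkR1_6 : pieceOK 30 (schR1) (dataR.schChk 1) 6 = true := by decide +kernel

theorem schChkR1_7 : pieceOK 30 (schR1) (dataR.schChk 1) 7 = true := by decide +kernel

theorem schChkR1_all : (schR1).all (dataR.schChk 1) = true :=
  all_of_pieces (n := 30) (m := 8) (by decide +kernel) fun i hi =>
    match i, hi with
    | 0, _ => schChkR1_0
    | 1, _ => schChkR1_1
    | 2, _ => schChkR1_2
    | 3, _ => schChkR1_3
    | 4, _ => schChkR1_4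
    | 5, _ => schChkR1_5
    | 6, _ => schChkR1_6
    | 7, _ => schChkR1_7
    | j + 8, h => absurd h (by omega)

theorem schChkR2_0 : pieceOK 30 (schR2) (dataR.schChk 2) 0 = true := by decide +kernel

theorem schChkR2_1 : pieceOK 30 (schR2) (dataR.schChk 2) 1 = true := by decide +kernel

theorem schChkR2_2 : pieceOK 30 (schR2) (dataR.schChk 2) 2 = true := by decide +kernel

theorem schChkR2_all : (schR2).all (dataR.schChk 2) = true :=
  all_of_pieces (n := 30) (m := 3) (by decide +kernel) fun i hi =>
    match i, hi with
    | 0, _ => schChkR2_0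
    | 1, _ => schChkR2_1
    | 2, _ => schChkR2_2
    | j + 3, h => absurd h (by omega)

theorem schChkR3_0 : pieceOK 30 (schR3) (dataR.schChk 3) 0 = true := by decide +kernel

theorem schChkR3_1 : pieceOK 30 (schR3) (dataR.schChk 3) 1 = true := by decide +kernel

theorem schChkR3_all : (schR3).all (dataR.schChk 3) = true :=
  all_of_pieces (n := 30) (m := 2) (by decide +kernel) fun i hi =>
    match i, hi with
    | 0, _ => schChkR3_0
    | 1, _ => schChkR3_1
    | j + 2, h => absurd h (by omega)

theorem schChkR4_0 : pieceOK 30 (schR4) (dataR.schChk 4) 0 = true := by decide +kernel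

theorem schChkR4_all : (schR4).all (dataR.schChk 4) = true :=
  all_of_pieces (n := 30) (m := 1) (by decide +kernel) fun i hi =>
    match i, hi with
    | 0, _ => schChkR4_0
    | j + 1, h => absurd h (by omega)

theorem schChkR5_0 : pieceOK 30 (schR5) (dataR.schChk 5) 0 = true := by decide +kernel

theorem schChkR5_all : (schR5).all (dataR.schChk 5) = true :=
  all_of_pieces (n := 30) (m := 1) (by decide +kernel) fun i hi =>
    match i, hi with
    | 0, _ => schChkR5_0
    | j + 1, h => absurd h (by omega)

theorem schChkR6_0 : pieceOK 30 (schR6) (dataR.schChk 6) 0 = true := by decide +kernel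

theorem schChkR6_all : (schR6).all (dataR.schChk 6) = true :=
  all_of_pieces (n := 30) (m := 1) (by decide +kernel) fun i hi =>
    match i, hi with
    | 0, _ => schChkR6_0
    | j + 1, h => absurd h (by omega)

theorem schChkR7_0 : pieceOK 30 (schR7) (dataR.schChk 7) 0 = true := by decide +kernel

theorem schChkR7_all : (schR7).all (dataR.schChk 7) = true :=
  all_of_pieces (n := 30) (m := 1) (by decide +kernel) fun i hi =>
    match i, hi with
    | 0, _ => schChkR7_0
    | j + 1, h => absurd h (by omega)

theorem schChkR8_0 : pieceOK 30 (schR8) (dataR.schChk 8) 0 = true := by decide +kernel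

theorem schChkR8_all : (schR8).all (dataR.schChk 8) = true :=
  all_of_pieces (n := 30) (m := 1) (by decide +kernel) fun i hi =>
    match i, hi with
    | 0, _ => schChkR8_0
    | j + 1, h => absurd h (by omega)

end CfsgLib.Fi22OSeven
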