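import Cfsg.Agent.Lib.OmegaSevenMult.Action
import Cfsg.Agent.Lib.Classical.OrthFix
import Cfsg.Agent.Lib.Fi22OSeven.DataR
import Cfsg.Agent.Lib.Fi22OSeven.Elems

/-!
Eight elements of `Ω₇(3)`, the negatives of reflections, and their permutations of the 378 points.
-/

set_option autoImplicit false
set_option Elab.async false
set_option maxRecDepth 100000

namespace CfsgLib.Fi22OSeven

open Matrix CfsgLib.OmegaSevenMult

theorem root_inv : ∀ k : Fin 8,
    mat (rootTab.getD k ([], [])).1 * mat (rootTab.getD k ([], [])).2 = 1 ∧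
    mat (rootTab.getD k ([], [])).2 * mat (rootTab.getD k ([], [])).1 = 1 := by decide +kernel

/-- the isometry check for one root -/
def RootIso (k : Fin 8) : Prop :=
  ∀ v : Ix → F3, q7 (mat (rootTab.getD k ([], [])).1 *ᵥ v) = q7 v

instance : DecidablePred RootIso := fun k => inferInstanceAs (Decidable (∀ v : Ix → F3, _))

theorem root_isometry_0 : RootIso 0 := by decide +kernel

theorem root_isometry_1 : RootIso 1 := by decide +kernel

theorem root_isometry_2 : RootIso 2 := by decide +kernel

theorem root_isometry_3 : RootIso 3 := by decide +kernel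

theorem root_isometry_4 : RootIso 4 := by decide +kernel

theorem root_isometry_5 : RootIso 5 := by decide +kernel

theorem root_isometry_6 : RootIso 6 := by decide +kernel

theorem root_isometry_7 : RootIso 7 := by decide +kernel

theorem root_isometry : ∀ k : Fin 8, RootIso k := by
  intro k
  fin_cases k
  · exact root_isometry_0
  · exact root_isometry_1
  · exact root_isometry_2
  · exact root_isometry_3
  · exact root_isometry_4
  · exact root_isometry_5
  · exact root_isometry_6
  · exact root_isometry_7

/-- the roots -/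
def root (k : Fin 8) : Cfsg.isometryGroup F3 q7 :=
  ⟨⟨mat (rootTab.getD k ([], [])).1, mat (rootTab.getD k ([], [])).2, (root_inv k).1, (root_inv k).2⟩,
    fun u _ => root_isometry k u⟩

theorem root_sq_mem (k : Fin 8) : root k * root k ∈ Cfsg.Omega F3 q7 := by
  obtain ⟨Q, hQ, hB⟩ := exists_quad
  have key : ∀ f : (Ix → F3) → F3, ⇑Q = f → ∀ g : Cfsg.isometryGroup F3 f,
      g * g ∈ Cfsg.Omega F3 f := by
    rintro f rfl g
    exact CfsgLib.Orth.sq_mem_omega hB (by simp) g
  exact key q7 hQ (root k)

/-- the elements -/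
def Y (k : Fin 8) : Cfsg.Omega F3 q7 := ⟨root k * root k, root_sq_mem k⟩

theorem sq_tab : ∀ k : Fin 8,
    mat (rootTab.getD k ([], [])).1 * mat (rootTab.getD k ([], [])).1 = mat (reflTab.getD k []) := by
  decide +kernel

theorem coe_Y (k : Fin 8) :
    ((((Y k : Cfsg.Omega F3 q7) : Cfsg.isometryGroup F3 q7) : GL Ix F3) : Matrix Ix Ix F3) =
      mat (reflTab.getD k []) := sq_tab k

/-- the permutation of the points -/
def pK (k i : ℕ) : ℕ := (((permTab.getD k []).getD (i / 32) []).getD (i % 32) 0)

/-- the check of the images under one element -/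
def ReflOK (k : Fin 8) : Prop :=
  ∀ i : Fin 378, pK k i < 378 ∧
    (mat (reflTab.getD k []) *ᵥ pt i = pt (pK k i) ∨
      mat (reflTab.getD k []) *ᵥ pt i = -pt (pK k i))

instance : DecidablePred ReflOK := fun k => inferInstanceAs (Decidable (∀ i : Fin 378, _))

theorem reflChk_0 : ReflOK 0 := by decide +kernel

theorem reflChk_1 : ReflOK 1 := by decide +kernel

theorem reflChk_2 : ReflOK 2 := by decide +kernel

theorem reflChk_3 : ReflOK 3 := by decide +kernel

theorem reflChk_4 : ReflOK 4 := by decide +kernel

theorem reflChk_5 : ReflOK 5 := by decide +kernel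

theorem reflChk_6 : ReflOK 6 := by decide +kernel

theorem reflChk_7 : ReflOK 7 := by decide +kernel

theorem reflChk : ∀ k : Fin 8, ReflOK k := by
  intro k
  fin_cases k
  · exact reflChk_0
  · exact reflChk_1
  · exact reflChk_2
  · exact reflChk_3
  · exact reflChk_4
  · exact reflChk_5
  · exact reflChk_6
  · exact reflChk_7

/-- The action on the points, with the images under the eight elements. -/
theorem exists_reflAction : ∃ ρ : Cfsg.Omega F3 q7 →* Equiv.Perm (Fin 378),
    ∀ k : Fin 8, ∀ i : Fin 378, ((ρ (Y k) i : Fin 378) : ℕ) = pK k i := by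
  classical
  have hinj : Function.Injective fun i : Fin 378 => pr (pt i) := fun i j e =>
    pt_distinct i j (pr_inj e)
  obtain ⟨φ, hφ⟩ := CfsgLib.Schur.exists_familyHom (fun (g : Cfsg.Omega F3 q7) S => move g S)
    (fun i : Fin 378 => pr (pt i)) hinj (fun i => move_one _) (fun g h i => move_mul _ _ _)
    (S := Set.univ) (Subgroup.closure_univ) (fun g _ i => by
      show ∃ j : Fin 378, move g (pr (pt i)) = pr (pt j)
      rw [move_pr]
      obtain ⟨j, hj⟩ := pt_complete (((((g : Cfsg.isometryGroup F3 q7) : GL Ix F3)) : Matrix Ix Ix F3) *ᵥ pt i)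
        (((g : Cfsg.isometryGroup F3 q7).2 (pt i) (pt i)).trans (pt_q i))
      exact ⟨j, hj.elim (fun h => by rw [h]) fun h => by rw [h, pr_neg]⟩)
  refine ⟨φ, fun k i => ?_⟩
  obtain ⟨h, hv⟩ := reflChk k i
  have e : φ (Y k) i = ⟨_, h⟩ := hinj (by
    refine (hφ (Y k) i).trans ?_
    show move _ (pr (pt i)) = pr (pt _)
    rw [move_pr, coe_Y]
    rcases hv with hv | hv <;> rw [hv]
    exact pr_neg _)
  rw [e]

end CfsgLib.Fi22OSeven
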