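import Cfsg.Agent.Lib.Fi22Pres.Main
import Cfsg.Agent.Lib.Schur.MonoLift
import Cfsg.Agent.Lib.Fi22OSeven.Refl
import Cfsg.Agent.Lib.Fi22OSeven.ChkR
import Cfsg.Agent.Lib.Fi22OSeven.ChkSchR

/-!
In the presented Fischer group Fi22 the letters `b, …, i` generate `Ω₇(3)`.

Both groups are images of the subgroup generated by the paired letters in the product, and that
subgroup is no larger than either of them.
-/

set_option autoImplicit false
set_option maxRecDepth 100000

namespace CfsgLib.Fi22OSeven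

open CfsgLib.CosetEnum CfsgLib.Schur.MonoCover CfsgLib.OmegaSevenMult CfsgLib.Fi22Pres

theorem validR : dataR.Valid where
  hm := by decide
  hc := by decide
  htab := tabChkR_all
  hinv := invChkR_all
  hdef := defChkR_all
  hlev := List.all_eq_true.2 fun k hk =>
    match k, List.mem_range.1 hk with
    | 0, _ => levChkR_0
    | 1, _ => levChkR_1
    | 2, _ => levChkR_2
    | 3, _ => levChkR_3
    | 4, _ => levChkR_4
    | 5, _ => levChkR_5
    | 6, _ => levChkR_6
    | 7, _ => levChkR_7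
    | 8, _ => levChkR_8
    | j + 9, h => absurd h (Nat.not_lt.2 (Nat.le_add_left 9 j))
  hlast := by decide
  hsch := fun k hk =>
    match k, hk with
    | 0, _ => schChkR0_all
    | 1, _ => schChkR1_all
    | 2, _ => schChkR2_all
    | 3, _ => schChkR3_all
    | 4, _ => schChkR4_all
    | 5, _ => schChkR5_all
    | 6, _ => schChkR6_all
    | 7, _ => schChkR7_all
    | 8, _ => schChkR8_all
    | j + 9, h => absurd h (Nat.not_lt.2 (Nat.le_add_left 9 j))
  hpick := fun k hk => List.all_eq_true.1 pickChkR_all k (List.mem_range.2 hk)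

/-- the element of a letter -/
def yGen (g : ℕ) : Cfsg.Omega F3 q7 := if h : 1 ≤ g ∧ g ≤ 8 then Y ⟨g - 1, by omega⟩ else 1

/-- its permutation -/
def yPerm (g x : ℕ) : ℕ := pK (g - 1) x

/-- the relators among the eight letters -/
def relsH : List (List ℕ) :=
  certA.rels.filter fun r => r.all fun g => decide (1 ≤ g) && decide (g ≤ 8)

theorem sq_chk : (List.range 8).all (fun k =>
    (List.range 378).all fun i => Nat.beq (pK k (pK k i)) i) = true := by decide +kernel

theorem rel_chk : relsH.all (fun r => r.all (fun g => decide (1 ≤ g) && decide (g ≤ 8)) &&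
    (List.range 378).all fun i => Nat.beq (r.foldr yPerm i) i) = true := by decide +kernel

theorem rootGens : ∀ g ∈ dataR.gens 0, g = 0 ∨ g = 1 := by decide +kernel

theorem chk0 : (List.range 378).all
    (fun i => Nat.beq (dataR.img 0 i) ([1, 2, 3, 4, 5, 6, 7, 8].foldr yPerm i)) = true := by
  decide +kernel

theorem chk1 : (List.range 378).all (fun i => Nat.beq (dataR.img 1 i) (pK 0 i)) = true := by
  decide +kernel

theorem orbitProdR : Data.orbitProd dataR 0 dataR.nlev = 4585351680 := by decide +kernel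

/-- The eight elements generate and satisfy the relators. -/
theorem yGen_facts : (∀ g, yGen g * yGen g = 1) ∧ (∀ r ∈ relsH, prodW yGen r = 1) ∧
    Subgroup.closure {y | ∃ g, yGen g = y} = ⊤ := by
  obtain ⟨ρ, hρ⟩ := exists_reflAction
  have hy : ∀ g, 1 ≤ g → g ≤ 8 → ∀ i : Fin 378,
      ((ρ (yGen g) i : Fin 378) : ℕ) = yPerm g i := by
    intro g h1 h8 i
    rw [yGen, dif_pos ⟨h1, h8⟩]
    exact hρ _ i
  have hfold : ∀ r : List ℕ, (∀ g ∈ r, 1 ≤ g ∧ g ≤ 8) → ∀ i : Fin 378,
      ((ρ (prodW yGen r) i : Fin 378) : ℕ) = r.foldr yPerm i := by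
    intro r
    induction r with
    | nil => intro _ i; simp
    | cons g r ih =>
      intro hr i
      rw [List.forall_mem_cons] at hr
      rw [prodW_cons, map_mul, Equiv.Perm.mul_apply, hy g hr.1.1 hr.1.2, ih hr.2, List.foldr_cons]
  let X : ℕ → Cfsg.Omega F3 q7 := fun g => if g = 0 then prodW yGen [1, 2, 3, 4, 5, 6, 7, 8] else yGen 1
  have hX : ∀ g ∈ dataR.gens 0, ∀ i : Fin 378, ((ρ (X g) i : Fin 378) : ℕ) = dataR.img g i := by
    intro g hg i
    rcases rootGens g hg with rfl | rfl
    · have := List.all_eq_true.1 chk0 i (List.mem_range.2 i.2)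
      rw [Nat.beq_eq] at this
      show ((ρ (prodW yGen [1, 2, 3, 4, 5, 6, 7, 8]) i : Fin 378) : ℕ) = _
      rw [hfold _ (by decide) i, this]
    · have := List.all_eq_true.1 chk1 i (List.mem_range.2 i.2)
      rw [Nat.beq_eq] at this
      show ((ρ (yGen 1) i : Fin 378) : ℕ) = _
      rw [hy 1 le_rfl (by norm_num) i, this]
      rfl
  obtain ⟨hgen, hinj⟩ := Data.chain_generates validR ρ X hX (by rw [card_omega_seven, orbitProdR])
  have ext' : ∀ a b : Cfsg.Omega F3 q7, (∀ i : Fin 378, ((ρ a i : Fin 378) : ℕ) = (ρ b i : ℕ)) → a = b :=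
    fun a b h => hinj (Equiv.ext fun i => Fin.ext (h i))
  refine ⟨fun g => ?_, fun r hr => ?_, ?_⟩
  · by_cases hg : 1 ≤ g ∧ g ≤ 8
    · refine ext' _ _ fun i => ?_
      rw [map_mul, map_one, Equiv.Perm.mul_apply, hy g hg.1 hg.2, hy g hg.1 hg.2]
      have := List.all_eq_true.1 (List.all_eq_true.1 sq_chk (g - 1) (List.mem_range.2 (by omega)))
        i (List.mem_range.2 i.2)
      rw [Nat.beq_eq] at this
      exact this
    · rw [yGen, dif_neg hg, mul_one]
  · have h := List.all_eq_true.1 rel_chk r hr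
    simp only [Bool.and_eq_true, List.all_eq_true, decide_eq_true_eq, List.mem_range,
      Nat.beq_eq] at h
    refine ext' _ _ fun i => ?_
    rw [hfold r h.1 i, h.2 i i.2, map_one]
    rfl
  · rw [eq_top_iff, ← hgen, Subgroup.closure_le]
    rintro _ ⟨g, -, rfl⟩
    have hmem : ∀ g, yGen g ∈ Subgroup.closure {y | ∃ g, yGen g = y} := fun g =>
      Subgroup.subset_closure ⟨g, rfl⟩
    show X g ∈ _
    by_cases hg : g = 0
    · simp only [X, if_pos hg, prodW_cons, prodW_nil, mul_one]
      exact mul_mem (hmem 1) (mul_mem (hmem 2) (mul_mem (hmem 3) (mul_mem (hmem 4) (mul_mem (hmem 5)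
        (mul_mem (hmem 6) (mul_mem (hmem 7) (hmem 8)))))))
    · simp only [X, if_neg hg]
      exact hmem 1

theorem blocks_chk : (blockOK certS1 relsH 1 1 && blockOK certS2 relsH 1 2 && blockOK certS3 relsH 1 3
    && blockOK certS4 relsH 1 4 && blockOK certS5 relsH 1 5 && blockOK certS6 relsH 1 6
    && blockOK certC relsH 1 7 && blockOK certB relsH 1 8) = true := by decide +kernel

/-- Any eight involutions with these relators generate at most that many elements. -/
theorem card_block_le {H : Type*} [Group H] {f : ℕ → H} (hsq : ∀ g, f g * f g = 1)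
    (hr : ∀ r ∈ relsH, prodW f r = 1) :
    Finite (genSub (blockGen f 1 8) 8) ∧ Nat.card (genSub (blockGen f 1 8) 8) ≤ 4585351680 := by
  have hb := blocks_chk
  simp only [Bool.and_eq_true] at hb
  obtain ⟨⟨⟨⟨⟨⟨⟨b1, b2⟩, b3⟩, b4⟩, b5⟩, b6⟩, bC⟩, bB⟩ := hb
  have h1 := block_card_le hsq hr certS1_complete b1 (subs_closure_bot rfl)
  have h2 := block_step hsq hr certS2_complete b2 (d := 0) (k := 1) (by decide +kernel)
    (by norm_num) h1
  have h3 := block_step hsq hr certS3_complete b3 (d := 0) (k := 2) (by decide +kernel)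
    (by norm_num) h2
  have h4 := block_step hsq hr certS4_complete b4 (d := 0) (k := 3) (by decide +kernel)
    (by norm_num) h3
  have h5 := block_step hsq hr certS5_complete b5 (d := 0) (k := 4) (by decide +kernel)
    (by norm_num) h4
  have h6 := block_step hsq hr certS6_complete b6 (d := 0) (k := 5) (by decide +kernel)
    (by norm_num) h5
  have hC := block_step hsq hr certC_complete bC (d := 0) (k := 6) (by decide +kernel)
    (by norm_num) h6
  exact block_step hsq hr certB_complete bB (d := 0) (k := 7) (by decide +kernel)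
    (by norm_num) hC

theorem subH_iso : Nonempty (subH ≃* Cfsg.POmega F3 q7) := by
  obtain ⟨hysq, hyrel, hygen⟩ := yGen_facts
  let f : ℕ → Cfsg.Spor.Fi22 × Cfsg.Omega F3 q7 :=
    fun g => if 1 ≤ g ∧ g ≤ 8 then (gen g, yGen g) else 1
  have hsq : ∀ g, f g * f g = 1 := fun g => by
    by_cases hg : 1 ≤ g ∧ g ≤ 8
    · simp only [f, if_pos hg, Prod.mk_mul_mk, gen_sq, hysq, Prod.mk_one_one]
    · simp [f, hg]
  have hfw : ∀ r : List ℕ, (∀ g ∈ r, 1 ≤ g ∧ g ≤ 8) → prodW f r = (prodW gen r, prodW yGen r) := by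
    intro r
    induction r with
    | nil => intro _; simp [Prod.ext_iff]
    | cons g r ih =>
      intro hr
      rw [List.forall_mem_cons] at hr
      simp only [prodW_cons, ih hr.2, f, if_pos hr.1, Prod.mk_mul_mk]
  have hrel : ∀ r ∈ relsH, prodW f r = 1 := fun r hr => by
    have hr' := hr
    simp only [relsH, List.mem_filter, List.all_eq_true, Bool.and_eq_true, decide_eq_true_eq] at hr'
    rw [hfw r hr'.2, modelA.rel r hr'.1, hyrel r hr, Prod.mk_one_one]
  obtain ⟨hfin, hle⟩ := card_block_le hsq hrel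
  set D := genSub (blockGen f 1 8) 8 with hD
  haveI := hfin
  have hDgen : ∀ g, 1 ≤ g → g ≤ 8 → f g ∈ D := fun g h1 h8 =>
    Subgroup.subset_closure ⟨g - 1, by omega, by
      rw [blockGen, if_pos (by omega)]; congr 1; omega⟩
  have hfst : D.map (MonoidHom.fst _ _) = subH := by
    rw [hD, subH, genSub, MonoidHom.map_closure, genSub]
    congr 1
    ext y
    simp only [Set.mem_image, Set.mem_ofPred_eq, MonoidHom.coe_fst]
    constructor
    · rintro ⟨_, ⟨g, hg, rfl⟩, rfl⟩
      exact ⟨g, hg, by rw [blockGen, blockGen, if_pos hg, if_pos hg]; simp [f, show g + 1 ≤ 8 by omega]⟩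
    · rintro ⟨g, hg, rfl⟩
      exact ⟨_, ⟨g, hg, rfl⟩, by rw [blockGen, blockGen, if_pos hg, if_pos hg]; simp [f, show g + 1 ≤ 8 by omega]⟩
  have hsnd : D.map (MonoidHom.snd _ _) = ⊤ := by
    rw [eq_top_iff, ← hygen, Subgroup.closure_le]
    rintro _ ⟨g, rfl⟩
    by_cases hg : 1 ≤ g ∧ g ≤ 8
    · exact ⟨f g, hDgen g hg.1 hg.2, by simp [f, hg]⟩
    · rw [yGen, dif_neg hg]; exact one_mem _
  have hcH : Nat.card subH = 4585351680 := by
    have h := subH.card_mul_index
    rw [index_subH, card_faithful.1] at h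
    omega
  let p₁ : D →* subH :=
    ((MonoidHom.fst _ _).comp D.subtype).codRestrict subH fun x => hfst.le ⟨x.1, x.2, rfl⟩
  let p₂ : D →* Cfsg.Omega F3 q7 := (MonoidHom.snd _ _).comp D.subtype
  have s₁ : Function.Surjective p₁ := fun y => by
    obtain ⟨x, hx, e⟩ := Subgroup.mem_map.1 (hfst.ge y.2)
    exact ⟨⟨x, hx⟩, Subtype.ext e⟩
  have s₂ : Function.Surjective p₂ := fun y => by
    obtain ⟨x, hx, e⟩ := Subgroup.mem_map.1 (hsnd.ge (Subgroup.mem_top y))
    exact ⟨⟨x, hx⟩, e⟩
  have b₁ := s₁.bijective_of_nat_card_le (by rw [hcH]; exact hle)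
  have b₂ := s₂.bijective_of_nat_card_le (by rw [card_omega_seven]; exact hle)
  let e₀ : Cfsg.Omega F3 q7 ≃* Cfsg.POmega F3 q7 :=
    MulEquiv.ofBijective (QuotientGroup.mk' (Subgroup.center (Cfsg.Omega F3 q7)))
      ⟨(MonoidHom.ker_eq_bot_iff _).mp (by rw [QuotientGroup.ker_mk', center_omega_seven]),
        QuotientGroup.mk'_surjective _⟩
  exact ⟨((MulEquiv.ofBijective p₁ b₁).symm.trans (MulEquiv.ofBijective p₂ b₂)).trans e₀⟩

end CfsgLib.Fi22OSeven
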